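import Groth.Agent.H11Tilde.AffineInvertible
import Mathlib.RingTheory.MvPolynomial.Localization
import Mathlib.RingTheory.PicardGroup
import Mathlib.Algebra.MvPolynomial.Nilpotent
import Mathlib.AlgebraicGeometry.Modules.Tilde

/-!
# Invertible modules over polynomial rings, locally on the base
-/

set_option autoImplicit false
set_option linter.style.haveILetI false

noncomputable section

universe u

open MvPolynomial TensorProduct CategoryTheory AlgebraicGeometry

namespace Groth.Agent.H23AffPic

/-- An invertible module over `A[T_σ]` is freely generated by one element over `D(a)` for some `a`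
outside `p`, as soon as invertible modules over `A_p[T_σ]` are free. -/
theorem exists_genOn {σ : Type u} {A R' : Type u} [CommRing A] [CommRing R'] (e : MvPolynomial σ A ≃+* R')
    (p : Ideal A) [p.IsPrime] (Ap : Type u) [CommRing Ap] [Algebra A Ap] [IsLocalization.AtPrime Ap p]
    (hfree : ∀ (M : Type u) [AddCommGroup M] [Module (MvPolynomial σ Ap) M]
      [Module.Invertible (MvPolynomial σ Ap) M], Module.Free (MvPolynomial σ Ap) M)
    (Q : Type u) [AddCommGroup Q] [Module R' Q] [Module.Invertible R' Q] :
    ∃ (a : A) (m : Q), a ∉ p ∧ H11Tilde.GenOn (e (C a)) m := by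
  classical
  let S' : Submonoid R' := (p.primeCompl.map (C (σ := σ))).map e.toMonoidHom
  letI : Algebra (MvPolynomial σ A) (MvPolynomial σ Ap) := MvPolynomial.algebraMvPolynomial
  haveI : IsLocalization (p.primeCompl.map (C (σ := σ))) (MvPolynomial σ Ap) :=
    MvPolynomial.isLocalization p.primeCompl Ap
  letI : Algebra R' (MvPolynomial σ Ap) :=
    ((algebraMap (MvPolynomial σ A) (MvPolynomial σ Ap)).comp e.symm.toRingHom).toAlgebra
  haveI : IsLocalization S' (MvPolynomial σ Ap) :=
    IsLocalization.isLocalization_of_base_ringEquiv (p.primeCompl.map (C (σ := σ))) (MvPolynomial σ Ap) e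
  let Ql := LocalizedModule S' Q
  let RS := Localization S'
  haveI : Module.Invertible RS Ql :=
    Module.Invertible.congr (IsLocalizedModule.isBaseChange S' RS (LocalizedModule.mkLinearMap S' Q)).equiv
  let ε : RS ≃+* MvPolynomial σ Ap := (IsLocalization.algEquiv S' RS (MvPolynomial σ Ap)).toRingEquiv
  haveI : Subsingleton (CommRing.Pic (MvPolynomial σ Ap)) := CommRing.Pic.subsingleton_iff.2 fun M _ _ _ =>
    hfree M
  haveI : Subsingleton (CommRing.Pic RS) := ⟨fun x y => by
    have h := congrArg (CommRing.Pic.mapRingHom ε.symm.toRingHom)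
      (Subsingleton.elim (CommRing.Pic.mapRingHom ε.toRingHom x) (CommRing.Pic.mapRingHom ε.toRingHom y))
    rwa [CommRing.Pic.mapRingHom_mapRingHom, CommRing.Pic.mapRingHom_mapRingHom,
      show ε.symm.toRingHom.comp ε.toRingHom = RingHom.id _ from ε.symm_comp,
      CommRing.Pic.mapRingHom_id_apply, CommRing.Pic.mapRingHom_id_apply] at h⟩
  haveI : Module.Free RS Ql := CommRing.Pic.mk_eq_one_iff_free.1 (Subsingleton.elim _ _)
  obtain ⟨θ⟩ := Module.Invertible.free_iff_linearEquiv.1 (inferInstance : Module.Free RS Ql)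
  obtain ⟨⟨m, s⟩, hms⟩ := IsLocalizedModule.surj S' (LocalizedModule.mkLinearMap S' Q) (θ.symm 1)
  change (s : R') • θ.symm 1 = LocalizedModule.mkLinearMap S' Q m at hms
  have hs : IsUnit (algebraMap R' RS s) := IsLocalization.map_units RS s
  let θ' : RS ≃ₗ[RS] Ql := (LinearEquiv.smulOfUnit hs.unit).trans θ.symm
  have hθ' : ∀ r : RS, θ' r = r • LocalizedModule.mkLinearMap S' Q m := fun r => by
    show θ.symm (hs.unit • r) = _
    rw [Units.smul_def, IsUnit.unit_spec, smul_eq_mul, ← hms, ← algebraMap_smul RS (s : R'), smul_smul,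
      ← map_smul, smul_eq_mul, mul_one, mul_comm]
  let l : R' →ₗ[R'] Q := LinearMap.toSpanSingleton R' Q m
  let f : R' →ₗ[R'] RS := Algebra.linearMap R' RS
  have hbij : Function.Bijective (IsLocalizedModule.map S' f (LocalizedModule.mkLinearMap S' Q) l) := by
    have hF : IsLocalizedModule.map S' f (LocalizedModule.mkLinearMap S' Q) l = θ'.toLinearMap.restrictScalars R' := by
      refine IsLocalizedModule.ext S' f (IsLocalizedModule.map_units (LocalizedModule.mkLinearMap S' Q))
        (LinearMap.ext fun c => ?_)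
      rw [LinearMap.comp_apply, LinearMap.comp_apply, IsLocalizedModule.map_apply]
      change LocalizedModule.mkLinearMap S' Q (c • m) = θ' (algebraMap R' RS c)
      rw [hθ', map_smul, algebraMap_smul]
    rw [hF]
    exact θ'.bijective
  haveI : Module.FinitePresentation R' Q := Module.finitePresentation_of_projective R' Q
  obtain ⟨b, hb, hb'⟩ := exists_bijective_map_powers S' f (LocalizedModule.mkLinearMap S' Q) l hbij
  obtain ⟨_, ⟨a, ha, rfl⟩, rfl⟩ := hb
  have hb'' := hb' _ dvd_rfl
  refine ⟨a, m, ha, fun q => ?_, fun c hc => ?_⟩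
  · obtain ⟨z, hz⟩ := hb''.2 (LocalizedModule.mk q 1)
    induction z using LocalizedModule.induction_on with
    | h c t =>
      rw [LocalizedModule.map_mk, LocalizedModule.mk_eq] at hz
      obtain ⟨⟨_, i, rfl⟩, hu⟩ := hz
      obtain ⟨_, k, rfl⟩ := t
      simp only [Submonoid.smul_def, one_smul, l, LinearMap.toSpanSingleton_apply, OneMemClass.coe_one,
        smul_smul] at hu
      exact ⟨i + k, e (C a) ^ i * c, by rw [pow_add]; exact hu.symm⟩
  · have h0 : LocalizedModule.map (Submonoid.powers (e.toMonoidHom (C a))) l (LocalizedModule.mk c 1) =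
        LocalizedModule.map (Submonoid.powers (e.toMonoidHom (C a))) l 0 := by
      rw [LocalizedModule.map_mk, map_zero, show l c = 0 from hc, LocalizedModule.zero_mk]
    have h1 := hb''.1 h0
    rw [← LocalizedModule.zero_mk 1, LocalizedModule.mk_eq] at h1
    obtain ⟨⟨_, i, rfl⟩, hu⟩ := h1
    simp only [Submonoid.smul_def, OneMemClass.coe_one, smul_zero, one_smul, smul_eq_mul] at hu
    exact ⟨i, hu⟩

/-- A unit of a polynomial ring over a reduced ring with constant term `1` is `1`. -/
theorem eq_one_of_isUnit {σ A : Type*} [CommRing A] [IsReduced A] {v : MvPolynomial σ A} (hv : IsUnit v)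
    (h0 : constantCoeff v = 1) : v = 1 := by
  classical
  rw [MvPolynomial.isUnit_iff] at hv
  ext i
  rcases eq_or_ne i 0 with rfl | hi
  · simpa [constantCoeff_eq] using h0
  · rw [(hv.2 i hi).eq_zero, coeff_one, if_neg hi.symm]

/-- A module freely generated by one element near every prime is invertible. -/
theorem finite_projective_invertible_of_genOn {R : Type u} [CommRing R] {Q : Type u} [AddCommGroup Q] [Module R Q]
    (hcov : ∀ p : PrimeSpectrum R, ∃ (b : R) (m : Q), b ∉ p.asIdeal ∧ H11Tilde.GenOn b m) :
    Module.Finite R Q ∧ Module.Projective R Q ∧ Module.Invertible R Q := by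
  classical
  choose b m hbp hm using hcov
  have hs : Ideal.span (Set.range b) = ⊤ := by
    by_contra hne
    obtain ⟨M, hM, hle⟩ := Ideal.exists_le_maximal _ hne
    exact hbp ⟨M, hM.isPrime⟩ (hle (Ideal.subset_span ⟨_, rfl⟩))
  haveI hfin : Module.Finite R Q := by
    obtain ⟨t, ht⟩ := (Ideal.span_eq_top_iff_finite _).1 hs
    choose pr hpr using fun r : (t : Set R) => ht.1 r.2
    refine ⟨⟨Finset.univ.image (fun r : (t : Set R) => m (pr r)), ?_⟩⟩
    refine eq_top_iff.2 fun q _ => ?_
    let S := Submodule.span R ((Finset.univ.image fun r : (t : Set R) => m (pr r) : Finset Q) : Set Q)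
    let I : Ideal R := S.comap (LinearMap.toSpanSingleton R Q q)
    have hI : I.radical = ⊤ := by
      refine eq_top_iff.2 (ht.2.symm.le.trans (Ideal.span_le.2 fun r hr => ?_))
      obtain ⟨j, a, ha⟩ := (hm (pr ⟨r, hr⟩)).1 q
      rw [hpr] at ha
      refine ⟨j, ?_⟩
      show r ^ j • q ∈ S
      rw [ha]
      exact S.smul_mem _ (Submodule.subset_span (by simp))
    have h1 : (1 : R) ∈ I := (Ideal.radical_eq_top.1 hI).ge Submodule.mem_top
    have h2 : q ∈ S := by simpa [I] using h1
    exact h2
  haveI hproj : Module.Projective R Q :=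
    H11Tilde.projective_of_genOn fun p => ⟨b p, m p, hbp p, hm p⟩
  refine ⟨hfin, hproj, ⟨?_⟩⟩
  obtain ⟨n, π, σ, -, -, hπσ⟩ := Module.Finite.exists_comp_eq_id_of_projective R Q
  have hswap : ∀ (f : Module.Dual R Q) (x y : Q), f x • y = f y • x := fun f x y => by
    by_contra hne
    let I : Ideal R := LinearMap.ker (LinearMap.toSpanSingleton R Q (f x • y - f y • x))
    have hI : I ≠ ⊤ := fun h => hne (by
      have h1 : (1 : R) ∈ I := h ▸ Submodule.mem_top
      simpa [I, sub_eq_zero] using h1)
    obtain ⟨M, hM, hle⟩ := Ideal.exists_le_maximal I hI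
    let p : PrimeSpectrum R := ⟨M, hM.isPrime⟩
    obtain ⟨j, a, ha⟩ := (hm p).1 x
    obtain ⟨k, c, hc⟩ := (hm p).1 y
    refine hbp p (hM.isPrime.mem_of_pow_mem (j + k) (hle ?_))
    show b p ^ (j + k) • (f x • y - f y • x) = 0
    have hfx : b p ^ j * f x = a * f (m p) := by simpa using congrArg f ha
    have hfy : b p ^ k * f y = c * f (m p) := by simpa using congrArg f hc
    have e1 : b p ^ (j + k) • f x • y = (a * f (m p) * c) • m p := by
      rw [smul_smul, show b p ^ (j + k) * f x = b p ^ j * f x * b p ^ k by rw [pow_add]; ring, hfx, mul_smul, hc,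
        smul_smul]
    have e2 : b p ^ (j + k) • f y • x = (a * f (m p) * c) • m p := by
      rw [smul_smul, show b p ^ (j + k) * f y = b p ^ k * f y * b p ^ j by rw [pow_add]; ring, hfy, mul_smul, ha,
        smul_smul]
      ring_nf
    rw [smul_sub, e1, e2, sub_self]
  let κ := contractLeft R Q
  have key : ∀ z ζ : TensorProduct R (Module.Dual R Q) Q, κ ζ • z = κ z • ζ := fun z ζ => by
    induction z with
    | zero => simp
    | add z z' h h' => rw [map_add, smul_add, add_smul, h, h']
    | tmul f x =>
      induction ζ with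
      | zero => simp
      | add w w' h h' => rw [map_add, smul_add, add_smul, h, h']
      | tmul g y =>
        simp only [κ, contractLeft_apply]
        rw [← TensorProduct.tmul_smul, ← hswap g x y, ← TensorProduct.smul_tmul, TensorProduct.smul_tmul']
        congr 1
        refine LinearMap.ext fun v => ?_
        show g x • f v = f x • g v
        have h := congrArg f (hswap g x v)
        rw [map_smul, map_smul] at h
        rw [h, smul_eq_mul, smul_eq_mul, mul_comm]
  have hsurj : Function.Surjective κ := by
    intro r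
    suffices h : LinearMap.range κ = ⊤ from LinearMap.range_eq_top.1 h r
    by_contra hne
    obtain ⟨M, hM, hle⟩ := Ideal.exists_le_maximal _ hne
    let p : PrimeSpectrum R := ⟨M, hM.isPrime⟩
    choose jf af haf using fun i => (hm p).1 (π (Pi.single i 1))
    let J := ∑ i, jf i
    let φ : Module.Dual R Q :=
      ∑ i, (b p ^ (J - jf i) * af i) • (LinearMap.proj i).comp σ
    have hφ : φ (m p) • m p = b p ^ J • m p := by
      have hx : ∑ i, σ (m p) i • π (Pi.single i 1) = m p := by
        refine Eq.trans ?_ (LinearMap.congr_fun hπσ (m p))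
        simp_rw [← map_smul, ← map_sum, LinearMap.comp_apply]
        congr 1
        funext j
        simp [Finset.sum_apply, Pi.single_apply]
      conv_rhs => arg 2; rw [← hx]
      rw [Finset.smul_sum]
      simp only [φ, LinearMap.coe_sum, Finset.sum_apply, Finset.sum_smul]
      refine Finset.sum_congr rfl fun i _ => ?_
      show ((b p ^ (J - jf i) * af i) * σ (m p) i) • m p = _
      rw [smul_smul (b p ^ J), show b p ^ J * σ (m p) i = σ (m p) i * b p ^ (J - jf i) * b p ^ jf i by
        rw [mul_assoc, ← pow_add, Nat.sub_add_cancel (Finset.single_le_sum (fun _ _ => Nat.zero_le _) (Finset.mem_univ i))]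
        ring, mul_smul (σ (m p) i * b p ^ (J - jf i)), haf]
      simp only [smul_smul]
      congr 1
      ring
    obtain ⟨k, hk⟩ := (hm p).2 (φ (m p) - b p ^ J) (by rw [sub_smul, hφ, sub_self])
    refine hbp p (hM.isPrime.mem_of_pow_mem (k + J) ?_)
    rw [mul_sub, sub_eq_zero, ← pow_add] at hk
    rw [← hk]
    exact M.mul_mem_left _ (hle ⟨φ ⊗ₜ m p, contractLeft_apply _ _⟩)
  refine ⟨fun z₁ z₂ h12 => ?_, hsurj⟩
  obtain ⟨ζ, hζ⟩ := hsurj 1
  change κ z₁ = κ z₂ at h12
  rw [← one_smul R z₁, ← one_smul R z₂, ← hζ, key z₁ ζ, key z₂ ζ, h12]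

end Groth.Agent.H23AffPic
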