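import Groth.Agent.H11Tilde.AffineInvertible
import Groth.Agent.H11Ample.RelAmple
import Groth.Agent.H11Ample.RelQuasiAffine
import Groth.Agent.H11Tilde.ProjUP
import Mathlib.RingTheory.PicardGroup
import Mathlib.AlgebraicGeometry.Modules.Tilde
import Mathlib.AlgebraicGeometry.AffineSpace

/-!
# From triviality of invertible sheaves on affine space to freeness of invertible modules
-/

set_option autoImplicit false
set_option linter.style.haveILetI false

noncomputable section

universe u

open CategoryTheory CategoryTheory.Limits AlgebraicGeometry Opposite TopologicalSpace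
open Groth.Agent.H11Tilde

namespace Groth.Agent.H23AffPic

/-- An invertible module is locally generated by one element. -/
theorem exists_genOn_of_invertible {R : Type u} [CommRing R] (M : Type u) [AddCommGroup M] [Module R M]
    [Module.Invertible R M] (q : PrimeSpectrum R) : ∃ (b : R) (m : M), b ∉ q.asIdeal ∧ GenOn b m := by
  refine exists_genOn_of_projective q ?_
  let S := q.asIdeal.primeCompl
  let Rq := Localization.AtPrime q.asIdeal
  haveI : Module.Invertible Rq (LocalizedModule S M) :=
    Module.Invertible.congr (IsLocalizedModule.isBaseChange S Rq (LocalizedModule.mkLinearMap S M)).equiv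
  haveI : Module.Free Rq (LocalizedModule S M) :=
    CommRing.Pic.mk_eq_one_iff_free.1 (Subsingleton.elim _ _)
  obtain ⟨θ⟩ := Module.Invertible.free_iff_linearEquiv.1 (inferInstance : Module.Free Rq (LocalizedModule S M))
  rw [θ.finrank_eq, Module.finrank_self]

/-- If invertible sheaves on a scheme isomorphic to `Spec R` are trivial, invertible `R`-modules are free. -/
theorem free_of_trivial {Y : Scheme.{u}} {R : CommRingCat.{u}} (Φ : Y ≅ Spec R)
    (hY : ∀ L : Y.Modules, PicF.IsInvertible L → Nonempty (L ≅ Coh.structureModule Y))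
    (M : Type u) [AddCommGroup M] [Module R M] [Module.Invertible R M] : Module.Free R M := by
  let L : (Spec R).Modules := tilde (ModuleCat.of R M)
  haveI : L.IsQuasicoherent := inferInstanceAs (tilde (ModuleCat.of R M)).IsQuasicoherent
  let e : M ≃ₗ[R] Γ(L, ⊤) := (tilde.isoTop (ModuleCat.of R M)).toLinearEquiv
  have hL : PicF.IsInvertible L := isInvertible_of_isGen fun q => by
    obtain ⟨b, m, hb, hm⟩ := exists_genOn_of_invertible (R := R) M q
    exact ⟨Db b, _, hb, isGen_of_genOn L (hm.map_equiv e)⟩
  obtain ⟨τ⟩ := hY _ (H11Ample.isInvertible_pullback Φ.hom hL)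
  obtain ⟨eO⟩ := H11Ample.nonempty_pullback_structureModule_iso Φ.inv
  let ψ : L ≅ Coh.structureModule (Spec R) :=
    ((Scheme.Modules.pullbackId (Spec R)).app L).symm ≪≫
      ((Scheme.Modules.pullbackCongr Φ.inv_hom_id).app L).symm ≪≫
      ((Scheme.Modules.pullbackComp Φ.inv Φ.hom).app L).symm ≪≫
      (Scheme.Modules.pullback Φ.inv).mapIso τ ≪≫ eO
  let p : Γ(L, ⊤) := ψ.inv.app ⊤ (H11Ample.one ⊤)
  have hp : IsGen L p := (H11Ample.isGen_one ⊤).map_iso ψ.symm
  have hg : GenOn (1 : R) p := genOn_of_isGen L (hp.res (le_top : Db (1 : R) ≤ ⊤))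
  have hbij : Function.Bijective (LinearMap.toSpanSingleton R Γ(L, ⊤) p) := by
    refine ⟨LinearMap.ker_eq_bot.1 (LinearMap.ker_eq_bot'.2 fun a ha => ?_), fun q => ?_⟩
    · obtain ⟨j, hj⟩ := hg.2 a ha
      simpa using hj
    · obtain ⟨j, a, ha⟩ := hg.1 q
      exact ⟨a, by simpa using ha.symm⟩
  exact Module.Free.of_equiv ((LinearEquiv.ofBijective _ hbij).trans e.symm)

end Groth.Agent.H23AffPic
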